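import Mathlib
import Groth.Prelude.Def_TwC
import Groth.Agent.FpqcDescent.Basic

/-!
# Twisted constant schemes are separated and etale
-/

set_option autoImplicit false
set_option backward.isDefEq.respectTransparency.types false

universe u

open CategoryTheory CategoryTheory.Limits MonoidalCategory CartesianMonoidalCategory AlgebraicGeometry

namespace Groth.Agent.TwConstB

theorem etale_const (T : Scheme.{u}) (I : Type u) : Etale (Sigma.desc fun _ : I => 𝟙 T) :=
  IsZariskiLocalAtSource.sigmaDesc (fun _ => inferInstance)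

theorem isSeparated_const (T : Scheme.{u}) (I : Type u) : IsSeparated (Sigma.desc fun _ : I => 𝟙 T) := by
  haveI := etale_const T I
  set d := Sigma.desc fun _ : I => 𝟙 T with hd
  let ι := Sigma.ι (fun _ : I => T)
  refine ⟨?_⟩
  refine IsClosedImmersion.of_isPreimmersion _ ?_
  rw [← isOpen_compl_iff, isOpen_iff_forall_mem_open]
  intro p hp
  obtain ⟨⟨i, a⟩, ha⟩ := (sigmaMk (fun _ : I => T)).surjective (pullback.fst d d p)
  obtain ⟨⟨j, b⟩, hb⟩ := (sigmaMk (fun _ : I => T)).surjective (pullback.snd d d p)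
  rw [sigmaMk_mk] at ha hb
  have hdis : ∀ {k l : I} {x y : T}, ι k x = ι l y → k = l := fun {k l x y} e => by
    have := (sigmaMk (fun _ : I => T)).injective (a₁ := ⟨k, x⟩) (a₂ := ⟨l, y⟩) (by rw [sigmaMk_mk, sigmaMk_mk]; exact e)
    exact congrArg Sigma.fst this
  have hij : i ≠ j := by
    rintro rfl
    refine hp ?_
    have hmem : p ∈ pullback.fst d d ⁻¹' Set.range (ι i) ∩ pullback.snd d d ⁻¹' Set.range (ι i) :=
      ⟨⟨a, ha⟩, ⟨b, hb⟩⟩
    rw [← Scheme.Pullback.range_map (𝟙 T) (𝟙 T) d d (ι i) (ι i) (𝟙 T) (by simp [hd, ι]) (by simp [hd, ι])] at hmem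
    obtain ⟨q, hq⟩ := hmem
    refine ⟨(pullback.fst (𝟙 T) (𝟙 T) ≫ ι i) q, ?_⟩
    rw [← hq, ← Scheme.Hom.comp_apply]
    have hfs : pullback.fst (𝟙 T) (𝟙 T) = pullback.snd (𝟙 T) (𝟙 T) := by simpa using (pullback.condition (f := 𝟙 T) (g := 𝟙 T))
    refine congrArg (fun k : pullback (𝟙 T) (𝟙 T) ⟶ pullback d d => k q) ?_
    apply pullback.hom_ext
    · rw [Category.assoc, pullback.diagonal_fst, Category.comp_id, pullback.lift_fst]
    · rw [Category.assoc, pullback.diagonal_snd, Category.comp_id, pullback.lift_snd, hfs]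
  refine ⟨pullback.fst d d ⁻¹' Set.range (ι i) ∩ pullback.snd d d ⁻¹' Set.range (ι j), ?_,
    ((ι i).isOpenEmbedding.isOpen_range.preimage (pullback.fst d d).continuous).inter
      ((ι j).isOpenEmbedding.isOpen_range.preimage (pullback.snd d d).continuous), ⟨a, ha⟩, ⟨b, hb⟩⟩
  rintro _ ⟨⟨x, hx⟩, ⟨y, hy⟩⟩ ⟨z, rfl⟩
  rw [← Scheme.Hom.comp_apply, pullback.diagonal_fst] at hx
  rw [← Scheme.Hom.comp_apply, pullback.diagonal_snd] at hy
  exact hij (hdis (hx.trans hy.symm))

/-- isotrivial implies quasi-isotrivial -/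
theorem isTwConst_etale_of_finiteEtale {S : Scheme.{u}} (X : Over S)
    (h : TwC.IsTwConst TwC.Topology.finiteEtale X) : TwC.IsTwConst TwC.Topology.etale X := by
  obtain ⟨S', f, -, hf, hs, hloc⟩ := h
  intro s
  obtain ⟨s', rfl⟩ := hs.surj s
  obtain ⟨U, hU, -, hP⟩ := hloc s'
  haveI := hf
  exact ⟨U, U.ι ≫ f, inferInstance, ⟨⟨s', hU⟩, rfl⟩, hP⟩

theorem isSeparated_and_etale {S : Scheme.{u}} (X : Over S) (hX : TwC.IsTwConst TwC.Topology.etale X) :
    IsSeparated X.hom ∧ Etale X.hom := by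
  choose S' f hf hs I hI using hX
  let g : (∐ S') ⟶ S := Sigma.desc f
  haveI : Etale g := IsZariskiLocalAtSource.sigmaDesc hf
  haveI : Surjective g := ⟨fun s => by
    obtain ⟨y, hy⟩ := hs s
    exact ⟨Sigma.ι S' s y, by rw [← Scheme.Hom.comp_apply]; simpa [g] using hy⟩⟩
  have key : ∀ (P : MorphismProperty Scheme.{u}) [IsZariskiLocalAtTarget P]
      [P.DescendsAlong (@Surjective ⊓ @Flat ⊓ @LocallyOfFinitePresentation)],
      (∀ (T : Scheme.{u}) (J : Type u), P (Sigma.desc fun _ : J => 𝟙 T)) → P X.hom := by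
    intro P _ _ hP
    refine MorphismProperty.of_isPullback_of_descendsAlong (P := P)
      (Q := @Surjective ⊓ @Flat ⊓ @LocallyOfFinitePresentation) (IsPullback.of_hasPullback X.hom g).flip
      ⟨⟨inferInstance, inferInstance⟩, inferInstance⟩ ?_
    refine IsZariskiLocalAtTarget.of_openCover (P := P) (sigmaOpenCover S') fun s => ?_
    obtain ⟨e⟩ := hI s
    have he : e.hom.left ≫ (Sigma.desc fun _ : I s => 𝟙 (S' s)) = pullback.snd X.hom (f s) := Over.w e.hom
    have h1 : P (pullback.snd X.hom (f s)) := by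
      rw [← he]
      exact (P.cancel_left_of_respectsIso _ _).mpr (hP _ _)
    have h2 : P (pullback.snd (pullback.snd X.hom g) (Sigma.ι S' s)) := by
      have hi : (pullbackLeftPullbackSndIso X.hom g (Sigma.ι S' s) ≪≫ pullback.congrHom rfl (Sigma.ι_desc _ _)).hom ≫
          pullback.snd X.hom (f s) = pullback.snd (pullback.snd X.hom g) (Sigma.ι S' s) := by
        rw [Iso.trans_hom, Category.assoc, pullback.congrHom_hom]
        erw [pullback.lift_snd]
        rw [Category.comp_id, pullbackLeftPullbackSndIso_hom_snd]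
      rw [← hi]
      exact (P.cancel_left_of_respectsIso _ _).mpr h1
    exact h2
  exact ⟨key @IsSeparated fun T J => isSeparated_const T J, key @Etale fun T J => etale_const T J⟩

end Groth.Agent.TwConstB
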